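import Groth.Agent.ResProp.EF.Grp
import Mathlib.RingTheory.DedekindDomain.Dvr
import Mathlib.RingTheory.Flat.Localization
import Mathlib.RingTheory.Flat.TorsionFree
import Mathlib.RingTheory.Localization.AtPrime.Basic
import Mathlib.RingTheory.Localization.BaseChange
import Mathlib.RingTheory.Int.Basic

/-!
# The base ring `ℤ_(p)` : an instance of `IsLb`, flatness over `ℤ`, localization

`S16912`, seam between G2 (`IsLb p k`) and the gluing over `ℤ`.
-/

set_option autoImplicit false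

universe u

open Groth.Agent.ResProp.EF.Grp

namespace Groth.Agent.ResProp.EF.K209

/-- the prime ideal `(p)` of `ℤ` -/
abbrev pIdeal (p : ℕ) : Ideal ℤ := Ideal.span {(p : ℤ)}

instance pIdeal_isPrime (p : ℕ) [hp : Fact p.Prime] : (pIdeal p).IsPrime := by
  rw [Ideal.span_singleton_prime (by exact_mod_cast hp.out.ne_zero)]
  exact Nat.prime_iff_prime_int.mp hp.out

theorem pIdeal_ne_bot (p : ℕ) [hp : Fact p.Prime] : pIdeal p ≠ ⊥ := by
  rw [Ne, Ideal.span_singleton_eq_bot]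
  exact_mod_cast hp.out.ne_zero

/-- `ℤ_(p)` in the universe `0` -/
abbrev Z0 (p : ℕ) [Fact p.Prime] : Type := Localization.AtPrime (pIdeal p)

/-- `ℤ_(p)` in the universe `u` -/
abbrev Lb (p : ℕ) [Fact p.Prime] : Type u := ULift.{u} (Z0 p)

section

variable (p : ℕ) [hp : Fact p.Prime]

instance : IsDiscreteValuationRing (Z0 p) :=
  IsLocalization.AtPrime.isDiscreteValuationRing_of_dedekind_domain ℤ (pIdeal_ne_bot p) (Z0 p)

theorem z0_unit (n : ℤ) (h : ¬ (p : ℤ) ∣ n) : IsUnit (n : Z0 p) := by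
  have h1 : n ∈ (pIdeal p).primeCompl := fun hn => h (Ideal.mem_span_singleton.mp hn)
  have := IsLocalization.map_units (Z0 p) (⟨n, h1⟩ : (pIdeal p).primeCompl)
  simpa using this

theorem z0_not_unit : ¬ IsUnit ((p : ℕ) : Z0 p) := by
  intro h
  have h1 := (IsLocalization.AtPrime.isUnit_to_map_iff (Z0 p) (pIdeal p) (p : ℤ)).mp (by simpa using h)
  exact h1 (Ideal.mem_span_singleton_self _)

theorem z0_unit_of (x : Z0 p) (h : ¬ ((p : ℕ) : Z0 p) ∣ x) : IsUnit x := by
  obtain ⟨n, s, rfl⟩ := IsLocalization.exists_mk'_eq (pIdeal p).primeCompl x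
  rw [IsLocalization.AtPrime.isUnit_mk'_iff (Z0 p) (pIdeal p)]
  intro hn
  obtain ⟨m, rfl⟩ := Ideal.mem_span_singleton.mp hn
  apply h
  refine ⟨IsLocalization.mk' (Z0 p) m s, ?_⟩
  rw [← IsLocalization.mul_mk'_eq_mk'_of_mul]
  simp

theorem z0_res (x : Z0 p) : ∃ n : ℤ, ((p : ℕ) : Z0 p) ∣ x - n := by
  obtain ⟨n, s, rfl⟩ := IsLocalization.exists_mk'_eq (pIdeal p).primeCompl x
  have hs : IsCoprime (s : ℤ) (p : ℤ) := by
    have h1 : Prime (p : ℤ) := Nat.prime_iff_prime_int.mp hp.out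
    refine ((Prime.coprime_iff_not_dvd h1).mpr ?_).symm
    exact fun h => s.2 (Ideal.mem_span_singleton.mpr h)
  obtain ⟨a, b, hab⟩ := hs
  refine ⟨n * a, ?_⟩
  have h2 : IsLocalization.mk' (Z0 p) n s - ((n * a : ℤ) : Z0 p)
      = ((p : ℕ) : Z0 p) * IsLocalization.mk' (Z0 p) (n * b) s := by
    have hu := IsLocalization.map_units (Z0 p) s
    apply hu.mul_left_cancel
    rw [mul_sub, IsLocalization.mk'_spec', mul_left_comm, IsLocalization.mk'_spec']
    have h3 : (n : ℤ) - s * (n * a) = p * (n * b) := by linear_combination (-n) * hab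
    have h4 := congrArg (algebraMap ℤ (Z0 p)) h3
    simpa using h4
  exact ⟨_, h2⟩

/-- **`ℤ_(p)` is an `IsLb`**. -/
theorem isLb : IsLb p (Lb.{u} p) := by
  have hinj : Function.Injective (ULift.ringEquiv : Lb.{u} p ≃+* Z0 p) := ULift.ringEquiv.injective
  have hdom : IsDomain (Lb.{u} p) := MulEquiv.isDomain (Z0 p) (ULift.ringEquiv : Lb.{u} p ≃+* Z0 p).toMulEquiv
  have hpid : IsPrincipalIdealRing (Lb.{u} p) :=
    IsPrincipalIdealRing.of_surjective (ULift.ringEquiv : Lb.{u} p ≃+* Z0 p).symm.toRingHom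
      (ULift.ringEquiv : Lb.{u} p ≃+* Z0 p).symm.surjective
  have hc0 : CharZero (Z0 p) := charZero_of_injective_algebraMap
    (IsLocalization.injective (Z0 p) (pIdeal p).primeCompl_le_nonZeroDivisors)
  have hc : CharZero (Lb.{u} p) := ⟨fun m n h => by
    have := congrArg (ULift.ringEquiv : Lb.{u} p ≃+* Z0 p) h
    simpa using this⟩
  have hdvd : ∀ x y : Lb.{u} p, x ∣ y ↔ (ULift.ringEquiv : Lb.{u} p ≃+* Z0 p) x ∣ (ULift.ringEquiv : Lb.{u} p ≃+* Z0 p) y :=
    fun x y => (map_dvd_iff (ULift.ringEquiv : Lb.{u} p ≃+* Z0 p)).symm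
  have hun : ∀ x : Lb.{u} p, IsUnit x ↔ IsUnit ((ULift.ringEquiv : Lb.{u} p ≃+* Z0 p) x) :=
    fun x => (MulEquiv.isUnit_map (ULift.ringEquiv : Lb.{u} p ≃+* Z0 p)).symm
  refine ⟨hp.out, hdom, hc, hpid, ?_, ?_, ?_⟩
  · rw [hun]
    simpa using z0_not_unit p
  · intro x hx
    rw [hun]
    apply z0_unit_of
    rw [hdvd] at hx
    simpa using hx
  · intro x
    obtain ⟨n, hn⟩ := z0_res p ((ULift.ringEquiv : Lb.{u} p ≃+* Z0 p) x)
    refine ⟨n, ?_⟩
    rw [hdvd]
    simpa using hn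

/-- `ℤ_(p)` (in any universe) is the localization of `ℤ` at `(p)`. -/
instance lb_isLocalization : IsLocalization (pIdeal p).primeCompl (Lb.{u} p) :=
  IsLocalization.isLocalization_of_algEquiv (pIdeal p).primeCompl
    (AlgEquiv.ofRingEquiv (f := (ULift.ringEquiv : Lb.{u} p ≃+* Z0 p).symm) (fun n => by
      simp) : Z0 p ≃ₐ[ℤ] Lb.{u} p)

instance lb_isLocalization_atPrime : IsLocalization.AtPrime (Lb.{u} p) (pIdeal p) := lb_isLocalization p

end

section General

variable {p : ℕ} {k : Type u} [CommRing k]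

theorem isLb_unit_int (h : IsLb p k) (n : ℤ) (hn : ¬ (p : ℤ) ∣ n) : IsUnit (n : k) := by
  have hp := h.prime
  have h1 : Prime (p : ℤ) := Nat.prime_iff_prime_int.mp hp
  obtain ⟨a, b, hab⟩ := (Prime.coprime_iff_not_dvd h1).mpr hn
  apply h.unit_of
  intro hd
  apply h.not_unit
  have h2 := congrArg (Int.cast : ℤ → k) hab
  push_cast at h2
  rw [isUnit_iff_dvd_one, ← h2]
  exact dvd_add (Dvd.intro_left _ rfl) (hd.mul_left _)

theorem isLb_unit_prime (h : IsLb p k) (q : ℕ) (hq : q.Prime) (hqp : q ≠ p) : IsUnit (q : k) := by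
  have := isLb_unit_int h (q : ℤ) (by
    intro hd
    exact hqp ((Nat.prime_dvd_prime_iff_eq h.prime hq).mp (by exact_mod_cast hd)).symm)
  simpa using this

/-- `IsLb p k` gives flatness over `ℤ` (NOT `k = ℤ_(p)`: completions satisfy `IsLb` too; use `Lb p` for the localization). -/
theorem isLb_flat (h : IsLb p k) : Module.Flat ℤ k := by
  have := h.dom
  have := h.char0
  have : Module.IsTorsionFree ℤ k := inferInstance
  infer_instance

end General

end Groth.Agent.ResProp.EF.K209
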